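import Cfsg.Agent.H532.O8S.Cross
import Cfsg.Agent.H30.HTS.SzCore
import Cfsg.Agent.H823.O8R.Defs

/-!
# S3691, row `PΩ⁺₈(q)`, `q ≥ 16`: no cross characteristic socle (helper372, after helper532)

* `cross` : with the hypothesis that the socle is known.
-/

set_option autoImplicit false

namespace Cfsg.Agent.H372.O8R

open Cfsg Cfsg.Geo Cfsg.Agent.OrdDiv Cfsg.Agent.H436 Cfsg.Agent.H264.FKS Cfsg.Agent.H902
open Cfsg.Agent.H902.Names Cfsg.Agent.H708.O8 Cfsg.Agent.H915.LD Cfsg.Agent.H884.El Cfsg.Agent.H936.List12
open Cfsg.Agent.H912.Bd Cfsg.Agent.H912.Five Cfsg.Agent.H823.O8S Cfsg.Agent.H823.O8R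
open Cfsg.Agent.H532.O8S (B0 dvd_B0 not_dvd_B0 aut_L aut_U aut_S aut_OP fac_dvd fac_dvd' aut_A_eq aut_A aut_spor card_aut_sz8)
open Cfsg.Agent.H105.O8 (lie_dvd charP_of)
open scoped MatrixGroups Matrix

variable {F : Type} [Field F] [Fintype F] {p a r b s k t : ℕ}

theorem prime_cases {l : ℕ} (hl : l.Prime) (hd : l ∣ 3 * 29120) : l = 2 ∨ l = 3 ∨ l = 5 ∨ l = 7 ∨ l = 13 := by
  have h1 : l ∣ 2 ^ 6 * 3 * 5 * 7 * 13 := by
    have : 3 * 29120 = 2 ^ 6 * 3 * 5 * 7 * 13 := by norm_num
    rwa [this] at hd
  have key : ∀ {m : ℕ}, m.Prime → l ∣ m → l = m := fun hm h => (Nat.prime_dvd_prime_iff_eq hl hm).1 h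
  rcases hl.dvd_mul.1 h1 with h1 | h1
  · rcases hl.dvd_mul.1 h1 with h1 | h1
    · rcases hl.dvd_mul.1 h1 with h1 | h1
      · rcases hl.dvd_mul.1 h1 with h1 | h1
        · exact Or.inl (key Nat.prime_two (hl.dvd_of_dvd_pow h1))
        · exact Or.inr (Or.inl (key Nat.prime_three h1))
      · exact Or.inr (Or.inr (Or.inl (key (by norm_num) h1)))
    · exact Or.inr (Or.inr (Or.inr (Or.inl (key (by norm_num) h1))))
  · exact Or.inr (Or.inr (Or.inr (Or.inr (key (by norm_num) h1))))

theorem prim_seven_eight {l : ℕ} (h : Prim 7 8 l) : ¬ l ∣ 3 * 29120 := by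
  intro hd
  rcases prime_cases h.prime hd with rfl | rfl | rfl | rfl | rfl
  · have := (h.dvd_iff 1).1 (by norm_num)
    norm_num at this
  · have := (h.dvd_iff 1).1 (by norm_num)
    norm_num at this
  · have := (h.dvd_iff 4).1 (by norm_num)
    norm_num at this
  · exact h.not_dvd dvd_rfl
  · have := (h.dvd_iff 12).1 (by norm_num)
    norm_num at this

theorem prim_seven_six {l : ℕ} (h : Prim 7 6 l) : ¬ l ∣ 3 * 29120 := by
  intro hd
  rcases prime_cases h.prime hd with rfl | rfl | rfl | rfl | rfl
  · have := (h.dvd_iff 1).1 (by norm_num)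
    norm_num at this
  · have := (h.dvd_iff 1).1 (by norm_num)
    norm_num at this
  · have := (h.dvd_iff 4).1 (by norm_num)
    norm_num at this
  · exact h.not_dvd dvd_rfl
  · have := (h.dvd_iff 6).2 dvd_rfl
    norm_num at this

/-- arithmetic of the row `Sz(8)` -/
theorem sz_arith (h : Nm p a r b s k t) (hp : p ∣ 29120) (hp2 : p ≠ 2) (hs : s ^ k ∣ 3 * 29120)
    (hrt : r ∣ 3 * 29120 ∨ t ∣ 3 * 29120) : False := by
  have hpp := h.rb.hp
  have ha := h.rb.ha
  obtain ⟨rfl, rfl⟩ := dvd_B0 h.rk (hs.trans (by unfold B0; norm_num))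
  rcases prime_cases hpp (hp.trans (dvd_mul_left _ _)) with rfl | rfl | rfl | rfl | rfl
  · exact hp2 rfl
  · norm_num at hp
  · have h1 := (h.rk.prim.dvd_iff 4).1 (by norm_num)
    have := Nat.le_of_dvd (by norm_num) h1
    omega
  · have h1 := (h.rk.prim.dvd_iff 12).1 (by norm_num)
    have h2 : a ≤ 2 := by
      have := Nat.le_of_dvd (by norm_num) h1
      omega
    have h16 := h.q16
    have h3 : a = 2 := by
      interval_cases a
      · norm_num at h16
      · rfl
    subst h3
    rcases hrt with h4 | h4
    · exact prim_seven_eight h.rb.prim h4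
    · exact prim_seven_six h.t h4
  · exact h.rk.prim.not_dvd dvd_rfl

theorem cross (hF : Nat.card F = p ^ a) (h : Nm p a r b s k t) {R : Subgroup (T8 F)}
    (S : Subgroup R) [S.Normal] (hS : IsSimpleGroup S) (hna : ¬ IsMulCommutative S)
    (hC : Subgroup.centralizer (S : Set R) = ⊥) {P : Subgroup (GL H708.O8.I8 F)}
    (hP : IsResidualCore (pre (quadFormPlus 4 F) R) P) (e : S ≃* Soc P) (hL : ¬ IsLieTypeChar p (Soc P))
    (hk : IsKnownSimple' (Soc P)) (hs : s ^ k ∣ Nat.card R) (hrt : r ∣ Nat.card R ∨ t ∣ Nat.card R) : False := by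
  have := charP_of h.rb.hp h.rb.ha hF
  have hpf := Fact.mk h.rb.hp
  let ix : H708.O8.I8 ≃ Fin 8 := finSumFinEquiv
  obtain ⟨P', hP'⟩ : ∃ P' : Subgroup (GL (Fin 8) F), P' = H936.Reix.rx ix P := ⟨_, rfl⟩
  have hC' : Core P' := by rw [hP']; exact H936.Reix.core_rx ix (core_of_residual hP)
  have e' : Soc P ≃* Soc P' := by rw [hP']; exact H936.Reix.socEquiv ix P
  have hk' := OddHalf.Known.isKnownSimple'_congr e' (core_of_residual hP).nonabelian hk
  have hL' : ¬ IsLieTypeChar p (Soc P') := fun h => hL (OddHalf.Known.isLieTypeChar_congr e'.symm h)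
  have ee : S ≃* Soc P' := e.trans e'
  have hsim : IsSimpleGroup (Soc P') := hC'.simple
  have hna' : ¬ IsMulCommutative (Soc P') := hC'.nonabelian
  have hRd : Nat.card R ∣ Nat.card (MulAut (Soc P')) := by
    rw [← Nat.card_congr (MulAut.congr ee).toEquiv]
    exact dvd_aut S hC
  have hdv : s ^ k ∣ Nat.card (MulAut (Soc P')) := hs.trans hRd
  have key : ¬ Nat.card (MulAut (Soc P')) ∣ B0 := fun h1 => not_dvd_B0 h.rk (hdv.trans h1)
  have h8 : Fintype.card (Fin 8) = 8 := Fintype.card_fin 8
  have kill : CandD p 8 (Soc P') → False := by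
    intro hc
    rcases hc with hc | hc | hc | ⟨hp2, -, hc⟩ | hc
    · obtain ⟨m, h5, h14, h15, -, h12, ⟨f⟩⟩ := hc
      by_cases h13 : m ≤ 12
      · exact key (aut_A h5 h13 f)
      · have hm : m = 13 := by
          by_contra hcon
          have := h12 (by omega)
          omega
        subst hm
        have hp5 : p = 5 := by
          by_contra hcon
          have := h15 hcon (by norm_num)
          omega
        rw [aut_A_eq (by norm_num) (by norm_num) f] at hdv
        obtain ⟨rfl, rfl⟩ := dvd_B0 h.rk (hdv.trans fac_dvd')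
        subst hp5
        have h1 := (h.rk.prim.dvd_iff 4).1 (by norm_num)
        have ha := h.rk.ha
        have := Nat.le_of_dvd (by norm_num) h1
        omega
    · rcases hc with ⟨q, hq, h1, h2, h3⟩ | ⟨h3, -, h4⟩ | ⟨-, -, h4⟩ | ⟨-, h4, -⟩ | ⟨-, -, -, h4⟩ | ⟨-, -, h4⟩ |
        ⟨-, h4, -⟩ | ⟨-, -, h4⟩ | ⟨-, -, h4⟩
      · simp only [Finset.mem_insert, Finset.mem_singleton] at hq
        rcases hq with rfl | rfl | rfl | rfl | rfl | rfl | rfl | rfl
        · exact key (aut_L hna' (p := 7) (f := 1) (by norm_num) le_rfl (by norm_num) le_rfl (fun _ => by norm_num) h3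
            (by unfold B0; simp only [Finset.prod_range_succ, Finset.prod_range_zero]; norm_num))
        · exact key (aut_L hna' (p := 2) (f := 3) (by norm_num) (by norm_num) (by norm_num) le_rfl
            (fun _ => by norm_num) h3
            (by unfold B0; simp only [Finset.prod_range_succ, Finset.prod_range_zero]; norm_num))
        · exact key (aut_L hna' (p := 11) (f := 1) (by norm_num) le_rfl (by norm_num) le_rfl (fun _ => by norm_num) h3
            (by unfold B0; simp only [Finset.prod_range_succ, Finset.prod_range_zero]; norm_num))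
        · obtain ⟨K, iK, iKf, hK, ⟨f⟩⟩ := h3
          have h4 := H464.Sl2.l2_degrees p hC' (K := K) (by omega) (by omega) (by rw [hK]; exact h1) f
            (by rw [h8]; norm_num)
          rw [h8] at h4
          simp [hK] at h4
        · exact key (aut_L hna' (p := 17) (f := 1) (by norm_num) le_rfl (by norm_num) le_rfl (fun _ => by norm_num) h3
            (by unfold B0; simp only [Finset.prod_range_succ, Finset.prod_range_zero]; norm_num))
        · norm_num at h2
        · norm_num at h2
        · norm_num at h2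
      · obtain ⟨K, iK, iKf, hK, ⟨f⟩⟩ := h4
        have h5 := (H175.L33.l33 hC' p h3 hK f (by rw [h8]; norm_num)).2.2.2
        rw [h8] at h5
        omega
      · exact key (aut_U hna' (p := 3) (f := 1) (by norm_num) le_rfl (by norm_num) le_rfl (by norm_num) h4
          (by unfold B0; simp [Finset.prod_range_succ]))
      · omega
      · exact key (aut_U hna' (p := 2) (f := 1) (by norm_num) le_rfl (by norm_num) (by norm_num) (by norm_num) h4
          (by unfold B0; simp only [show 4 - 1 = 3 from rfl, Finset.prod_range_succ, Finset.prod_range_zero]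
              norm_num [Nat.even_iff]))
      · exact key (aut_U hna' (p := 2) (f := 1) (by norm_num) le_rfl (by norm_num) (by norm_num) (by norm_num) h4
          (by unfold B0; simp only [show 5 - 1 = 4 from rfl, Finset.prod_range_succ, Finset.prod_range_zero]
              norm_num [Nat.even_iff]))
      · omega
      · exact key (aut_S hna' (p := 2) (f := 1) (by norm_num) le_rfl (by norm_num) (by norm_num) (by norm_num) h4
          (by unfold B0; simp only [Finset.prod_range_succ, Finset.prod_range_zero]; norm_num))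
      · exact key (aut_OP hna' (p := 2) (f := 1) (by norm_num) le_rfl (by norm_num) (by norm_num) h4
          (by unfold B0; simp only [Finset.prod_range_succ, Finset.prod_range_zero]; norm_num))
    · rcases hc with ⟨hp2, -, hc⟩ | ⟨-, h3, -⟩
      · rcases hc with h4 | h4 | ⟨-, h4⟩ | h4 | h4 | h4
        · exact key (aut_L hna' (p := 7) (f := 1) (by norm_num) le_rfl (by norm_num) le_rfl (fun _ => by norm_num) h4
            (by unfold B0; simp only [Finset.prod_range_succ, Finset.prod_range_zero]; norm_num))
        · exact key (aut_L hna' (p := 2) (f := 2) (by norm_num) (by norm_num) (by norm_num) (by norm_num)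
            (by norm_num) h4
            (by unfold B0; simp only [Finset.prod_range_succ, Finset.prod_range_zero]; norm_num))
        · exact key (aut_U hna' (p := 2) (f := 1) (by norm_num) le_rfl (by norm_num) (by norm_num) (by norm_num) h4
            (by unfold B0; simp only [show 4 - 1 = 3 from rfl, Finset.prod_range_succ, Finset.prod_range_zero]
                norm_num [Nat.even_iff]))
        · exact key (aut_S hna' (p := 2) (f := 1) (by norm_num) le_rfl (by norm_num) (by norm_num) (by norm_num) h4
            (by unfold B0; simp only [Finset.prod_range_succ, Finset.prod_range_zero]; norm_num))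
        · exact key (aut_OP hna' (p := 2) (f := 1) (by norm_num) le_rfl (by norm_num) (by norm_num) h4
            (by unfold B0; simp only [Finset.prod_range_succ, Finset.prod_range_zero]; norm_num))
        · have h5 := (H937.G24.row hC' h4 p hp2 (by rw [h8]; norm_num)).1
          rw [h8] at h5
          omega
      · omega
    · -- `Sz(8)`
      have h1 := card_aut_sz8 hna' hc
      have hcard : Nat.card (MulAut (Soc P')) = 3 * 29120 := by rw [h1.2, h1.1]
      have hpd : p ∣ Nat.card (Soc P') := by
        by_contra hnd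
        exact H30.HTS.core_not_sz8 hC' hnd hc
      rw [h1.1] at hpd
      rw [hcard] at hRd
      exact sz_arith h hpd hp2 (hs.trans hRd) (hrt.imp (fun h => h.trans hRd) (fun h => h.trans hRd))
    · have spor : ∀ {x : Grp × ℕ}, IsSporadicGroup (Soc P') → x ∈ OrdDiv.spor → OrdDiv.Real x.1 (Soc P') →
          2 * x.2 ∣ B0 → False := fun h1 h2 h3 h4 => key (aut_spor hna' h1 h2 h3 h4)
      have hsp : IsSporadicGroup (Soc P') := by
        unfold SporC at hc
        unfold IsSporadicGroup
        tauto
      rcases hc with hc | hc | hc | hc | hc | hc | hc | hc | hc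
      · exact spor hsp (x := (.m11, 7920)) (by simp [OrdDiv.spor]) hc (by unfold B0; norm_num)
      · exact spor hsp (x := (.m12, 95040)) (by simp [OrdDiv.spor]) hc (by unfold B0; norm_num)
      · exact spor hsp (x := (.m22, 443520)) (by simp [OrdDiv.spor]) hc (by unfold B0; norm_num)
      · exact spor hsp (x := (.m23, 10200960)) (by simp [OrdDiv.spor]) hc (by unfold B0; norm_num)
      · exact spor hsp (x := (.m24, 244823040)) (by simp [OrdDiv.spor]) hc (by unfold B0; norm_num)
      · by_cases h11 : p = 11
        · subst h11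
          have h1 := H179.JOne.j1_le12_iso hC' hc (by exact_mod_cast CharP.cast_eq_zero F 11) (by rw [h8]; norm_num)
          rw [h8] at h1
          omega
        · exact H659.J1.not_core hC' hc p h11 (by rw [h8]; norm_num)
      · exact spor hsp (x := (.j2, 604800)) (by simp [OrdDiv.spor]) hc (by unfold B0; norm_num)
      · have h1 := (H95.JT.j3 p hC' hc (by rw [h8]; norm_num)).2.1
        rw [h8] at h1
        omega
      · obtain ⟨f⟩ := hc
        by_cases h3 : p = 3
        · subst h3
          have h1 := (H878.Sz.core_Suz_three hC' f (by rw [h8]; norm_num)).1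
          rw [h8] at h1
          omega
        · have h1 := (H878.Sz.core_Suz hC' f (by rw [h8]; norm_num) p h3).1
          rw [h8] at h1
          omega
  exact kill (list₂ (p := p) (n := 8) (by norm_num) hC' hk' hL')

end Cfsg.Agent.H372.O8R
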