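import Cfsg.Agent.H823.O8R.Defs
import Cfsg.Agent.H883.Sub
import Cfsg.Agent.H955.QMinus
import Cfsg.Agent.S0287
import Cfsg.Agent.S0288
import Cfsg.Agent.S0788
import Cfsg.Agent.S0789

/-!
# S3691, row `PΩ⁺₈(q)`: orders of stabilisers of an anisotropic plane and of a nonsingular point (helper372)

* `card_O_minus`, `card_O_plus`, `card_E_mul` : orders of the isometry groups of nondegenerate spaces of even dimension;
* `ord_fixP` : the stabiliser of an anisotropic plane;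
* `le_of_sieg_plane` : the order of a group containing `Ω₆⁻(q)`;
* `dvd_of_sieg_point` : `r₃` divides the order of a group containing `Ω₇(q)`.
-/

set_option autoImplicit false
set_option linter.unusedSectionVars false
set_option linter.unusedVariables false

namespace Cfsg.Agent.H372.O8R

section General

open Module QuadraticMap Cfsg Cfsg.Agent.LieClassical.OrthCore Cfsg.Agent.LieClassical.OrthTrans
  Cfsg.Agent.LieClassical.OrthFinite Cfsg.Agent.H955

universe u v w

section Cj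

variable {F V V' : Type*} [Field F] [AddCommGroup V] [Module F V] [AddCommGroup V'] [Module F V']

/-- conjugation by a linear equivalence -/
def cj (e : V ≃ₗ[F] V') : (V ≃ₗ[F] V) ≃* (V' ≃ₗ[F] V') where
  toFun g := (e.symm.trans g).trans e
  invFun g := (e.trans g).trans e.symm
  left_inv g := by
    ext v
    simp
  right_inv g := by
    ext v
    simp
  map_mul' g k := by
    ext v
    change e (g (k (e.symm v))) = e (g (e.symm (e (k (e.symm v)))))
    rw [LinearEquiv.symm_apply_apply]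

theorem cj_apply (e : V ≃ₗ[F] V') (g : V ≃ₗ[F] V) (v : V') : cj e g v = e (g (e.symm v)) := rfl

theorem map_cj_O_le {Q : QuadraticForm F V} {Q' : QuadraticForm F V'} {e : V ≃ₗ[F] V'}
    (he : ∀ v, Q' (e v) = Q v) : (O Q).map (cj e).toMonoidHom ≤ O Q' := by
  rintro _ ⟨g, hg, rfl⟩
  intro v
  change Q' (e (g (e.symm v))) = Q' v
  rw [he, mem_O.1 hg, ← he, LinearEquiv.apply_symm_apply]

theorem map_cj_E_le {Q : QuadraticForm F V} {Q' : QuadraticForm F V'} {e : V ≃ₗ[F] V'}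
    (he : ∀ v, Q' (e v) = Q v) : (E Q).map (cj e).toMonoidHom ≤ E Q' := by
  rw [E, MonoidHom.map_closure, Subgroup.closure_le]
  rintro _ ⟨_, ⟨u, w, hu, hw, rfl⟩, rfl⟩
  have e1 : cj e (siegel Q u w hu hw) = siegel Q' (e u) (e w) (by rw [he]; exact hu)
      (by rw [polar_of_equiv e he]; exact hw) := by
    ext v
    rw [cj_apply, siegel_apply, siegel_apply]
    have h1 : polar Q' (e u) v = polar Q u (e.symm v) := by
      rw [← polar_of_equiv e he, LinearEquiv.apply_symm_apply]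
    have h2 : polar Q' (e w) v = polar Q w (e.symm v) := by
      rw [← polar_of_equiv e he, LinearEquiv.apply_symm_apply]
    rw [h1, h2, he]
    simp only [map_add, map_sub, map_smul, LinearEquiv.apply_symm_apply]
  rw [MulEquiv.toMonoidHom_eq_coe, MonoidHom.coe_coe, e1]
  exact siegel_mem_E _ _

theorem card_congr_of {H : Subgroup (V ≃ₗ[F] V)} {H' : Subgroup (V' ≃ₗ[F] V')} {e : V ≃ₗ[F] V'}
    (h1 : H.map (cj e).toMonoidHom ≤ H') (h2 : H'.map (cj e.symm).toMonoidHom ≤ H) : Nat.card H = Nat.card H' := by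
  have h : H.map (cj e).toMonoidHom = H' := by
    apply le_antisymm h1
    intro g hg
    refine ⟨_, h2 ⟨g, hg, rfl⟩, ?_⟩
    ext v
    show e (e.symm (g (e.symm.symm (e.symm v)))) = g v
    simp
  rw [← h]
  exact (Subgroup.card_map_of_injective (cj e).injective).symm

theorem card_E_congr {Q : QuadraticForm F V} {Q' : QuadraticForm F V'} {e : V ≃ₗ[F] V'}
    (he : ∀ v, Q' (e v) = Q v) : Nat.card (E Q) = Nat.card (E Q') :=
  card_congr_of (map_cj_E_le he) (map_cj_E_le fun v => by rw [← he, LinearEquiv.apply_symm_apply])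

theorem card_O_congr {Q : QuadraticForm F V} {Q' : QuadraticForm F V'} {e : V ≃ₗ[F] V'}
    (he : ∀ v, Q' (e v) = Q v) : Nat.card (O Q) = Nat.card (O Q') :=
  card_congr_of (map_cj_O_le he) (map_cj_O_le fun v => by rw [← he, LinearEquiv.apply_symm_apply])

end Cj

section Card

variable {F : Type u} [Field F] [Fintype F]

theorem card_O_eq {ι : Type} [Fintype ι] [DecidableEq ι] (Q : QuadraticForm F (ι → F)) :
    Nat.card (O Q) = Nat.card (isometryGroup F ⇑Q) := (Nat.card_congr (isometryEquiv Q).toEquiv).symm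

theorem card_E_eq {ι : Type} [Fintype ι] [DecidableEq ι] {Q : QuadraticForm F (ι → F)} (hG : Good Q) :
    Nat.card (E Q) = Nat.card (Omega F ⇑Q) := by
  rw [← hG.commutator_eq_E]
  exact (Nat.card_congr (omegaEquiv Q).toEquiv).symm

/-- the index of `Ω` -/
theorem idx {ι : Type} [Fintype ι] [DecidableEq ι] (Q : QuadraticForm F (ι → F)) (hQ : (polarBilin Q).Nondegenerate)
    (hd : 5 ≤ Fintype.card ι) : (Omega F ⇑Q).index = 2 ∨ (Omega F ⇑Q).index = 4 := by
  by_cases h2 : (2 : F) = 0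
  · left
    have hchar : CharP F 2 := CharTwo.of_one_ne_zero_of_two_eq_zero one_ne_zero h2
    exact LieClassical.OmegaReindex.index_omega_of_fin rfl
      (fun Q' hQ' => S0789.result (by omega) Q' hQ' (Or.inr (by omega))) Q hQ
  · right
    exact LieClassical.OmegaReindex.index_omega_of_fin rfl (fun Q' hQ' => S0788.result h2 (by omega) Q' hQ') Q hQ

theorem card_mul {ι : Type} [Fintype ι] [DecidableEq ι] {Q : QuadraticForm F (ι → F)}
    (hQ : Nondeg Q) (hd : 5 ≤ Fintype.card ι) :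
    ∃ k, (k = 2 ∨ k = 4) ∧ Nat.card (E Q) * k = Nat.card (O Q) := by
  have hG : Good Q := good_of_finite hQ (by rwa [Module.finrank_fintype_fun_eq_card])
  refine ⟨(Omega F ⇑Q).index, idx Q (nondegenerate_of_nondeg hQ) hd, ?_⟩
  rw [card_E_eq hG, card_O_eq, Subgroup.card_mul_index]

variable {V : Type v} [AddCommGroup V] [Module F V] [FiniteDimensional F V] {Q : QuadraticForm F V}

/-- the order of `O(Q)`, minus type -/
theorem card_O_minus (m : ℕ) (hQ : Nondeg Q) (hd : finrank F V = 2 * (m + 1)) (hP : ¬ IsPlus Q) :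
    Nat.card (O Q) = 2 * Nat.card F ^ ((m + 1) * m) * (Nat.card F ^ (m + 1) + 1) *
      ∏ i ∈ Finset.range m, (Nat.card F ^ (2 * (i + 1)) - 1) := by
  obtain ⟨a, b, hab⟩ := exists_aniso_coeff F
  obtain ⟨e, he⟩ := exists_minus_equiv hab m Q hQ hd hP
  rw [card_O_congr he, card_O_eq, LieClassical.QuadForms.coe_minusForm]
  have := S0288.result (F := F) Nat.card_eq_fintype_card.symm (m + 1) (by omega) a b hab
  simpa using this

/-- the order of `O(Q)`, plus type -/
theorem card_O_plus (m : ℕ) (hm : 1 ≤ m) (hQ : Nondeg Q) (hd : finrank F V = 2 * m) (hP : IsPlus Q) :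
    Nat.card (O Q) = 2 * Nat.card F ^ (m * (m - 1)) * (Nat.card F ^ m - 1) *
      ∏ i ∈ Finset.range (m - 1), (Nat.card F ^ (2 * (i + 1)) - 1) := by
  obtain ⟨e, he⟩ := exists_plus_equiv m Q hQ hd hP
  rw [card_O_congr he, card_O_eq, LieClassical.QuadForms.coe_plusForm]
  exact S0287.result (F := F) Nat.card_eq_fintype_card.symm m hm

/-- the index of `E(Q)` -/
theorem card_E_mul (m : ℕ) (hm : 2 ≤ m) (hQ : Nondeg Q) (hd : finrank F V = 2 * (m + 1)) :
    ∃ k, (k = 2 ∨ k = 4) ∧ Nat.card (E Q) * k = Nat.card (O Q) := by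
  by_cases hP : IsPlus Q
  · obtain ⟨e, he⟩ := exists_plus_equiv (m + 1) Q hQ hd hP
    rw [card_O_congr he, card_E_congr he]
    refine card_mul (nondeg_of_equiv e he hQ) ?_
    simp only [Fintype.card_sum, Fintype.card_fin]
    omega
  · obtain ⟨a, b, hab⟩ := exists_aniso_coeff F
    obtain ⟨e, he⟩ := exists_minus_equiv hab m Q hQ hd hP
    rw [card_O_congr he, card_E_congr he]
    refine card_mul (nondeg_of_equiv e he hQ) ?_
    simp only [Fintype.card_sum, Fintype.card_fin]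
    omega

end Card

section Stab

variable {F : Type u} [Field F] {V : Type v} [AddCommGroup V] [Module F V] [FiniteDimensional F V] {Q : QuadraticForm F V}

/-- the stabiliser of a subspace in `O(Q)` -/
def StO (Q : QuadraticForm F V) (U : Submodule F V) : Subgroup (V ≃ₗ[F] V) where
  carrier := {g | g ∈ O Q ∧ U.map (g : V →ₗ[F] V) = U}
  one_mem' := ⟨one_mem _, Submodule.map_id U⟩
  mul_mem' := by
    rintro g h ⟨hg, hg'⟩ ⟨hh, hh'⟩
    refine ⟨mul_mem hg hh, ?_⟩
    have e : ((g * h : V ≃ₗ[F] V) : V →ₗ[F] V) = (g : V →ₗ[F] V).comp (h : V →ₗ[F] V) := rfl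
    rw [e, Submodule.map_comp, hh', hg']
  inv_mem' := by
    rintro g ⟨hg, hg'⟩
    refine ⟨inv_mem hg, ?_⟩
    have e : ((g⁻¹ : V ≃ₗ[F] V) : V →ₗ[F] V).comp (g : V →ₗ[F] V) = LinearMap.id :=
      LinearMap.ext fun v => g.symm_apply_apply v
    conv_lhs => rw [← hg']
    rw [← Submodule.map_comp, e, Submodule.map_id]

theorem mem_StO {U : Submodule F V} {g : V ≃ₗ[F] V} : g ∈ StO Q U ↔ g ∈ O Q ∧ U.map (g : V →ₗ[F] V) = U := Iff.rfl

/-- restriction to the subspace -/
def rO (Q : QuadraticForm F V) (U : Submodule F V) : ↥(StO Q U) →* ↥(O (H955.res Q U)) where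
  toFun g := ⟨LinearEquiv.ofSubmodules g.1 U U g.2.2, fun v => g.2.1 v⟩
  map_one' := by
    apply Subtype.ext
    ext v
    rfl
  map_mul' g h := by
    apply Subtype.ext
    ext v
    rfl

theorem rO_apply {U : Submodule F V} (g : ↥(StO Q U)) (v : U) : (((rO Q U g : ↥(O (H955.res Q U))) : U ≃ₗ[F] U) v : V) = g.1 v :=
  rfl

theorem StO_perp (hQ : Nondeg Q) (U : Submodule F V) : StO Q U ≤ StO Q (perp Q U) := by
  rintro g ⟨hg, hg'⟩
  refine ⟨hg, ?_⟩
  apply Submodule.eq_of_le_of_finrank_le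
  · rintro _ ⟨v, hv, rfl⟩
    intro w hw
    rw [← hg'] at hw
    obtain ⟨u, hu, rfl⟩ := hw
    change polar Q (g u) (g v) = 0
    rw [polar_map hg]
    exact hv u hu
  · rw [LinearEquiv.finrank_map_eq]

/-- restriction to the two summands -/
def rO2 (hQ : Nondeg Q) (U : Submodule F V) :
    ↥(StO Q U) →* ↥(O (H955.res Q U)) × ↥(O (H955.res Q (perp Q U))) :=
  (rO Q U).prod ((rO Q (perp Q U)).comp (Subgroup.inclusion (StO_perp hQ U)))

theorem rO2_injective (hQ : Nondeg Q) {U : Submodule F V} (hU : Nondeg (H955.res Q U)) :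
    Function.Injective (rO2 hQ U) := by
  intro g h hgh
  have h1 := congrArg Prod.fst hgh
  have h2 := congrArg Prod.snd hgh
  apply Subtype.ext
  ext v
  obtain ⟨x, rfl⟩ := (decomp hU).surjective v
  rw [decomp_apply, map_add, map_add]
  have e1 : g.1 (x.1 : V) = h.1 (x.1 : V) :=
    congrArg (fun k : ↥(O (H955.res Q U)) => ((k.1 x.1 : U) : V)) h1
  have e2 : g.1 (x.2 : V) = h.1 (x.2 : V) :=
    congrArg (fun k : ↥(O (H955.res Q (perp Q U))) => ((k.1 x.2 : perp Q U) : V)) h2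
  rw [e1, e2]

theorem card_StO_dvd [Finite F] (hQ : Nondeg Q) {U : Submodule F V} (hU : Nondeg (H955.res Q U)) :
    Nat.card (StO Q U) ∣ Nat.card (O (H955.res Q U)) * Nat.card (O (H955.res Q (perp Q U))) := by
  rw [← Nat.card_prod]
  exact Subgroup.card_dvd_of_injective (rO2 hQ U) (rO2_injective hQ hU)

end Stab

end General

open Module QuadraticMap Cfsg Cfsg.Geo Cfsg.Agent.LieClassical.OrthCore Cfsg.Agent.H955 Cfsg.Agent.H954.TSing
open Cfsg.Agent.LieClassical.OmegaReindex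
open Cfsg.Agent.H884.El
open Cfsg.Agent.H708.O8 (I8 T8 RB)
open Cfsg.Agent.H436 (Prim)
open Cfsg.Agent.H823.O8S Cfsg.Agent.H823.O8R
open Cfsg.Agent.LieClassical.OrthTrans (Hyp)
open scoped MatrixGroups Matrix commutatorElement

/-! ### arithmetic -/

section Arith

variable {p a t : ℕ}

theorem not_two (hp : p.Prime) (h : Prim p (3 * a) t) (ha : 1 ≤ a) : t ≠ 2 := by
  rintro rfl
  have h1 : 2 ∣ p ^ 1 - 1 := by
    rw [pow_one]
    rcases Nat.even_or_odd p with he | ho
    · exact absurd (even_iff_two_dvd.1 he) h.not_dvd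
    · obtain ⟨k, rfl⟩ := ho
      exact ⟨k, by omega⟩
  have h2 := Nat.le_of_dvd one_pos ((h.dvd_iff 1).1 h1)
  omega

/-- the numbers prime to `t = r₃` -/
theorem cop (hp : p.Prime) (h : Prim p (3 * a) t) (ha : 1 ≤ a) :
    ¬ t ∣ 4 * (p ^ a) ^ 6 * (((p ^ a) ^ 2 - 1) * ((p ^ a) ^ 3 + 1) * ((p ^ a) ^ 4 - 1) * ((p ^ a) + 1)) := by
  have hpr := h.prime
  have h2 := not_two hp h ha
  have h3 : ∀ m, m < 3 * a → 0 < m → ¬ t ∣ p ^ m - 1 := fun m hm h0 =>
    h.not_dvd_sub fun hd => by have := Nat.le_of_dvd h0 hd; omega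
  intro hd
  rcases hpr.dvd_mul.1 hd with hd | hd
  · rcases hpr.dvd_mul.1 hd with hd | hd
    · have h4 : t ∣ 2 ^ 2 := hd
      exact h2 ((Nat.prime_dvd_prime_iff_eq hpr Nat.prime_two).1 (hpr.dvd_of_dvd_pow h4))
    · exact h.not_dvd (hpr.dvd_of_dvd_pow (hpr.dvd_of_dvd_pow hd))
  · rcases hpr.dvd_mul.1 hd with hd | hd
    · rcases hpr.dvd_mul.1 hd with hd | hd
      · rcases hpr.dvd_mul.1 hd with hd | hd
        · rw [← pow_mul] at hd
          exact h3 _ (by omega) (by omega) hd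
        · have h4 : t ∣ p ^ (3 * a) - 1 := h.dvd dvd_rfl
          rw [← pow_mul, mul_comm a 3] at hd
          have h5 : p ^ (3 * a) + 1 - (p ^ (3 * a) - 1) = 2 := by
            have := Nat.one_le_pow (3 * a) p hp.pos
            omega
          have h6 := Nat.dvd_sub hd h4
          rw [h5] at h6
          exact h2 ((Nat.prime_dvd_prime_iff_eq hpr Nat.prime_two).1 h6)
      · rw [← pow_mul] at hd
        have h4 := (h.dvd_iff _).1 hd
        have h5 : 3 * a ∣ 3 * a + a := by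
          rw [show 3 * a + a = a * 4 by ring]
          exact h4
        have h6 := Nat.le_of_dvd (by omega) ((Nat.dvd_add_right dvd_rfl).1 h5)
        omega
    · have h4 : p ^ a + 1 ∣ p ^ (2 * a) - 1 := by
        rw [show 2 * a = a * 2 by ring, pow_mul, show (p ^ a) ^ 2 - 1 = (p ^ a) ^ 2 - 1 ^ 2 by rw [one_pow],
          Nat.sq_sub_sq]
        exact dvd_mul_right _ _
      exact h3 _ (by omega) (by omega) (hd.trans h4)

theorem cop_p (hp : p.Prime) (ha : 1 ≤ a) :
    ¬ p ∣ (((p ^ a) ^ 2 - 1) * ((p ^ a) ^ 3 + 1) * ((p ^ a) ^ 4 - 1) * ((p ^ a) + 1)) := by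
  have h1 : ∀ m, 1 ≤ m → ¬ p ∣ p ^ m + 1 := fun m hm hd => by
    have h2 := (Nat.dvd_add_right (dvd_pow_self p (by omega : m ≠ 0))).1 hd
    exact hp.one_lt.ne' (Nat.dvd_one.1 h2)
  have h2 : ∀ m, 1 ≤ m → ¬ p ∣ p ^ m - 1 := fun m hm hd => by
    have h3 := (Nat.dvd_sub_iff_right (Nat.one_le_pow _ _ hp.pos) (dvd_pow_self p (by omega : m ≠ 0))).1 hd
    exact hp.one_lt.ne' (Nat.dvd_one.1 h3)
  intro hd
  simp only [← pow_mul] at hd
  rcases hp.dvd_mul.1 hd with hd | hd
  · rcases hp.dvd_mul.1 hd with hd | hd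
    · rcases hp.dvd_mul.1 hd with hd | hd
      · exact h2 _ (by omega) hd
      · exact h1 _ (by omega) hd
    · exact h2 _ (by omega) hd
  · exact h1 _ ha hd

end Arith

variable {F : Type} [Field F] [Fintype F] {p a r b s k t : ℕ} {R : Subgroup (T8 F)}

/-- the form -/
abbrev Q8 (F : Type) [Field F] : QuadraticForm F (I8 → F) := LieClassical.QuadForms.plusForm 4 F

theorem coe_Q8 : ⇑(Q8 F) = quadFormPlus 4 F := LieClassical.QuadForms.coe_plusForm 4

theorem nd_Q8 : Nondeg (Q8 F) := nondeg_plus 4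

theorem dim_Q8 : finrank F (I8 → F) = 8 := finrank_plus 4

/-! ### the upper bound -/

section Upper

variable {W : Submodule F (I8 → F)}

theorem nondeg_W (hW : finrank F W = 2) (hW0 : ∀ w ∈ W, quadFormPlus 4 F w = 0 → w = 0) : Nondeg (res (Q8 F) W) :=
  nondeg_of_aniso hW fun v hv => Subtype.ext (hW0 v v.2 (by rw [← coe_Q8]; exact hv))

theorem not_isPlus_W (hW : finrank F W = 2) (hW0 : ∀ w ∈ W, quadFormPlus 4 F w = 0 → w = 0) :
    ¬ IsPlus (res (Q8 F) W) :=
  not_isPlus_of_aniso (fun v hv => Subtype.ext (hW0 v v.2 (by rw [← coe_Q8]; exact hv))) (by omega)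

theorem not_isPlus_perp (hW : finrank F W = 2) (hW0 : ∀ w ∈ W, quadFormPlus 4 F w = 0 → w = 0) :
    ¬ IsPlus (res (Q8 F) (perp (Q8 F) W)) := by
  have h1 := isPlus_iff_perp (nd_Q8 (F := F)) (nondeg_W hW hW0) (by rw [dim_Q8]; decide) (by rw [hW]; decide)
  exact fun h => not_isPlus_W hW hW0 ((h1.1 (isPlus_plus 4)).2 h)

theorem dim_perp (hW : finrank F W = 2) : finrank F (perp (Q8 F) W) = 6 := by
  have := finrank_add_perp (nd_Q8 (F := F)) W
  rw [dim_Q8, hW] at this
  omega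

theorem card_O_W (hF : Nat.card F = p ^ a) (hW : finrank F W = 2) (hW0 : ∀ w ∈ W, quadFormPlus 4 F w = 0 → w = 0) :
    Nat.card (O (res (Q8 F) W)) = 2 * (p ^ a + 1) := by
  have := card_O_minus 0 (nondeg_W hW hW0) hW (not_isPlus_W hW hW0)
  rw [hF] at this
  simpa using this

theorem card_O_perp (hF : Nat.card F = p ^ a) (hW : finrank F W = 2)
    (hW0 : ∀ w ∈ W, quadFormPlus 4 F w = 0 → w = 0) :
    Nat.card (O (res (Q8 F) (perp (Q8 F) W))) =
      2 * ((p ^ a) ^ 6 * ((p ^ a) ^ 2 - 1) * ((p ^ a) ^ 3 + 1) * ((p ^ a) ^ 4 - 1)) := by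
  have := card_O_minus 2 (nondeg_perp (nd_Q8 (F := F)) (nondeg_W hW hW0)) (dim_perp hW) (not_isPlus_perp hW hW0)
  rw [this, hF, Finset.prod_range_succ, Finset.prod_range_succ, Finset.prod_range_zero]
  norm_num
  ring

theorem pre_map_le (hle : pre (quadFormPlus 4 F) R ≤ SW W) :
    (pre (quadFormPlus 4 F) R).map (LieClassical.OrthFinite.glEquiv I8 F).toMonoidHom ≤ StO (Q8 F) W := by
  rintro _ ⟨g, hg, rfl⟩
  have h1 : g ∈ isometryGroup F (quadFormPlus 4 F) := pre_le hg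
  rw [← coe_Q8] at h1
  refine ⟨?_, ?_⟩
  · rw [← LieClassical.OrthFinite.map_isometryGroup]
    exact ⟨g, h1, rfl⟩
  · have h2 := mem_SW.1 (hle hg)
    exact h2

theorem pre_map_le_comm : (pre (quadFormPlus 4 F) R).map (LieClassical.OrthFinite.glEquiv I8 F).toMonoidHom ≤
    ⁅O (Q8 F), O (Q8 F)⁆ := by
  rintro _ ⟨g, hg, rfl⟩
  have h1 := pre_le_omegaGL hg
  rw [← coe_Q8] at h1
  rw [← LieClassical.OrthFinite.map_Omega]
  obtain ⟨x, hx, rfl⟩ := h1
  exact ⟨x, hx, rfl⟩

theorem refl_notMem {w : I8 → F} (hw : Q8 F w ≠ 0) : refl (Q8 F) w hw ∉ ⁅O (Q8 F), O (Q8 F)⁆ := by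
  intro h1
  rw [← LieClassical.OrthFinite.map_Omega] at h1
  obtain ⟨g, hg, e⟩ := h1
  have h2 : g = Cfsg.Agent.ClassicalGeometry.Reflection.reflIso (Q8 F) w hw := by
    apply LieClassical.OrthFinite.isometryHom_injective
    rw [e]
    apply LinearEquiv.ext
    intro x
    rw [refl_apply, LieClassical.OrthFinite.isometryHom_apply,
      Cfsg.Agent.ClassicalGeometry.Reflection.coe_reflIso,
      Cfsg.Agent.ClassicalGeometry.Reflection.reflectionMatrix_mulVec]
  rw [h2] at hg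
  exact Cfsg.Agent.ClassicalGeometry.OrthDickson.refl_notMem_commutator (Q8 F) (nondegenerate_of_nondeg nd_Q8)
    (Or.inr (by decide)) w hw hg

theorem two_mul_dvd (hW : finrank F W = 2) (hW0 : ∀ w ∈ W, quadFormPlus 4 F w = 0 → w = 0)
    (hle : pre (quadFormPlus 4 F) R ≤ SW W) : 2 * Nat.card (pre (quadFormPlus 4 F) R) ∣ Nat.card (StO (Q8 F) W) := by
  obtain ⟨w, hw, hw0⟩ : ∃ w ∈ W, w ≠ 0 := Submodule.exists_mem_ne_zero_of_ne_bot (by
    rintro rfl
    rw [finrank_bot] at hW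
    omega)
  have hQw : Q8 F w ≠ 0 := fun h => hw0 (hW0 w hw (by rw [← coe_Q8]; exact h))
  let N : Subgroup ↥(StO (Q8 F) W) := (⁅O (Q8 F), O (Q8 F)⁆ : Subgroup _).subgroupOf (StO (Q8 F) W)
  have hN : N.Normal := by
    refine ⟨fun n hn g => ?_⟩
    rw [Subgroup.mem_subgroupOf] at hn ⊢
    change (g : (I8 → F) ≃ₗ[F] (I8 → F)) * n * (g : (I8 → F) ≃ₗ[F] (I8 → F))⁻¹ ∈ _
    have hgO : (g : (I8 → F) ≃ₗ[F] (I8 → F)) ∈ O (Q8 F) := g.2.1
    have h1 : ∀ x ∈ O (Q8 F), x * (n : (I8 → F) ≃ₗ[F] (I8 → F)) * x⁻¹ ∈ (⁅O (Q8 F), O (Q8 F)⁆ : Subgroup _) := by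
      intro x hx
      have h2 : x * (n : (I8 → F) ≃ₗ[F] (I8 → F)) * x⁻¹ = ⁅x, (n : (I8 → F) ≃ₗ[F] (I8 → F))⁆ * n := by
        rw [commutatorElement_def]
        group
      rw [h2]
      exact mul_mem (Subgroup.commutator_mem_commutator hx n.2.1) hn
    exact h1 _ hgO
  have hr : refl (Q8 F) w hQw ∈ StO (Q8 F) W := by
    refine ⟨refl_mem_O hQw, ?_⟩
    apply Submodule.eq_of_le_of_finrank_le
    · rintro _ ⟨v, hv, rfl⟩
      change refl (Q8 F) w hQw v ∈ W
      rw [refl_apply]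
      exact W.sub_mem hv (W.smul_mem _ hw)
    · rw [LinearEquiv.finrank_map_eq]
  have h2 : 2 ∣ N.index := by
    rw [Subgroup.index_eq_card]
    have h3 : orderOf (QuotientGroup.mk' N ⟨_, hr⟩) = 2 := by
      refine orderOf_eq_prime ?_ ?_
      · rw [← map_pow]
        have h4 : (⟨_, hr⟩ : ↥(StO (Q8 F) W)) ^ 2 = 1 := by
          apply Subtype.ext
          rw [pow_two]
          exact refl_mul_self hQw
        rw [h4, map_one]
      · intro h4
        have h5 := (QuotientGroup.eq_one_iff _).1 h4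
        exact refl_notMem hQw (Subgroup.mem_subgroupOf.1 h5)
    rw [← h3]
    exact orderOf_dvd_natCard _
  have h3 : Nat.card (pre (quadFormPlus 4 F) R) ∣ Nat.card N := by
    have h4 : Nat.card N = Nat.card ((⁅O (Q8 F), O (Q8 F)⁆ : Subgroup _) ⊓ StO (Q8 F) W : Subgroup _) := by
      rw [← Subgroup.subgroupOf_map_subtype]
      exact (Subgroup.card_map_of_injective (Subgroup.subtype_injective _)).symm
    rw [h4, ← Subgroup.card_map_of_injective
      (f := (LieClassical.OrthFinite.glEquiv I8 F).toMonoidHom) (LieClassical.OrthFinite.glEquiv I8 F).injective]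
    exact Subgroup.card_dvd_of_le (le_inf pre_map_le_comm (pre_map_le hle))
  rw [← Subgroup.card_mul_index N, mul_comm]
  exact mul_dvd_mul h3 h2

/-- **the stabiliser of an anisotropic plane** -/
theorem ord_fixP (hF : Nat.card F = p ^ a) (h : Nm p a r b s k t) (hP : FixP R) :
    ¬ t ∣ Nat.card R ∧ (Nat.card R).factorization p ≤ 6 * a + (if p = 2 then 1 else 0) := by
  obtain ⟨W, hW, hW0, hle⟩ := hP
  have hp : p.Prime := h.rb.hp
  have ha : 1 ≤ a := h.rb.ha
  set M := ((p ^ a) ^ 2 - 1) * ((p ^ a) ^ 3 + 1) * ((p ^ a) ^ 4 - 1) * ((p ^ a) + 1) with hM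
  have h1 : 2 * Nat.card R ∣ 2 * (2 * (p ^ a) ^ 6 * M) := by
    refine (mul_dvd_mul_left 2 card_dvd_pre).trans ((two_mul_dvd hW hW0 hle).trans
      ((card_StO_dvd nd_Q8 (nondeg_W hW hW0)).trans ?_))
    rw [card_O_W hF hW hW0, card_O_perp hF hW hW0, hM]
    refine dvd_of_eq ?_
    ring
  have h2 : Nat.card R ∣ 2 * (p ^ a) ^ 6 * M := Nat.dvd_of_mul_dvd_mul_left two_pos h1
  have hM0 : M ≠ 0 := fun h0 => cop_p hp ha (by rw [← hM, h0]; exact dvd_zero _)
  refine ⟨fun ht => cop hp h.t ha (ht.trans (h2.trans ?_)), ?_⟩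
  · rw [← hM]
    exact ⟨2, by ring⟩
  · have h3 := (Nat.factorization_le_iff_dvd Nat.card_pos.ne' (by
      refine mul_ne_zero (mul_ne_zero two_ne_zero (pow_ne_zero _ (pow_ne_zero _ hp.ne_zero))) hM0)).2 h2 p
    refine h3.trans ?_
    rw [Nat.factorization_mul (mul_ne_zero two_ne_zero (pow_ne_zero _ (pow_ne_zero _ hp.ne_zero))) hM0,
      Nat.factorization_mul two_ne_zero (pow_ne_zero _ (pow_ne_zero _ hp.ne_zero)), ← pow_mul,
      Finsupp.add_apply, Finsupp.add_apply, hp.factorization_pow, Nat.factorization_eq_zero_of_not_dvd (cop_p hp ha)]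
    rw [Nat.prime_two.factorization]
    by_cases hp2 : p = 2
    · subst hp2
      simp
      omega
    · simp [hp2]
      omega

end Upper

/-! ### the lower bounds -/

section Lower

open Cfsg.Agent.H883.Sub (EY EY_le_iff EY_fix exists_lift EY_mono)
open Cfsg.Agent.H883.Root (Has)

variable {W Y : Submodule F (I8 → F)}

/-- a group containing the Siegel transformations supported by `U^⊥` contains `E(Y)`, `Y ≤ U^⊥` -/
theorem EY_le (hs : HasSieg R W) (hY : Y ≤ perp (Q8 F) W) :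
    EY (Q8 F) Y ≤ (pre (quadFormPlus 4 F) R).map (LieClassical.OrthFinite.glEquiv I8 F).toMonoidHom := by
  rw [EY_le_iff]
  intro u hu w hw h1 h2
  refine ⟨h1, h2, (LieClassical.OrthFinite.glEquiv I8 F).symm (siegel (Q8 F) u w h1 h2),
    hs u w h1 h2 (fun v hv => ?_) (fun v hv => ?_), (LieClassical.OrthFinite.glEquiv I8 F).apply_symm_apply _⟩
  · rw [polar_comm]
    exact hY hu v hv
  · rw [polar_comm]
    exact hY hw v hv

theorem exists_omega (hs : HasSieg R W) (hY : Y ≤ perp (Q8 F) W) {g : (I8 → F) ≃ₗ[F] (I8 → F)} (hg : g ∈ EY (Q8 F) Y) :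
    ∃ x : Omega F (quadFormPlus 4 F), QuotientGroup.mk' (Subgroup.center (Omega F (quadFormPlus 4 F))) x ∈ R ∧
      LieClassical.OrthFinite.glEquiv I8 F ((x : isometryGroup F (quadFormPlus 4 F)) : GL I8 F) = g := by
  obtain ⟨y, hy, rfl⟩ := EY_le hs hY hg
  obtain ⟨_, ⟨x, hx, rfl⟩, rfl⟩ := hy
  exact ⟨x, hx, rfl⟩

/-- a central element of `Ω` which fixes a nonzero vector is trivial -/
theorem eq_one_of_center {x : Omega F (quadFormPlus 4 F)} (hx : x ∈ Subgroup.center (Omega F (quadFormPlus 4 F)))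
    {w : I8 → F} (hw : w ≠ 0)
    (h : LieClassical.OrthFinite.glEquiv I8 F ((x : isometryGroup F (quadFormPlus 4 F)) : GL I8 F) w = w) : x = 1 := by
  have hiso : ∃ u : I8 → F, u ≠ 0 ∧ Q8 F u = 0 := by
    obtain ⟨u, hu0, hu⟩ := exists_singular (Q8 F) (by rw [dim_Q8]; norm_num)
    exact ⟨u, hu0, hu⟩
  have key : ∀ (q : (I8 → F) → F) (hq : q = ⇑(Q8 F)) (x : Omega F q), x ∈ Subgroup.center (Omega F q) →
      LieClassical.OmegaCenter.omegaMat x = 1 ∨ LieClassical.OmegaCenter.omegaMat x = -1 := by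
    rintro q rfl x hx
    exact (LieClassical.OmegaCenter.mem_center_omega_iff (Q8 F) (nondegenerate_of_nondeg nd_Q8) (by decide) hiso x).1 hx
  rw [LieClassical.OrthFinite.glEquiv_apply] at h
  rcases key _ coe_Q8.symm x hx with h1 | h1
  · exact LieClassical.OmegaCenter.omega_ext h1
  · have h2 : LieClassical.OmegaCenter.omegaMat x = 1 := by
      rw [h1]
      have h3 : (-1 : Matrix I8 I8 F) *ᵥ w = w := by rw [← h1]; exact h
      rw [Matrix.neg_mulVec, Matrix.one_mulVec] at h3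
      obtain ⟨i, hi⟩ := Function.ne_iff.1 hw
      have h4 : - w i = w i := congrFun h3 i
      have h5 : (2 : F) * w i = 0 := by linear_combination -h4
      have h6 : (2 : F) = 0 := (mul_eq_zero.1 h5).resolve_right hi
      have h7 : (-1 : F) = 1 := by linear_combination -h6
      ext i j
      rw [Matrix.neg_apply, ← neg_one_mul, h7, one_mul]
    exact LieClassical.OmegaCenter.omega_ext h2

/-- `E(Y)` embeds in `R` -/
theorem card_E_le (hs : HasSieg R W) (hY : Y ≤ perp (Q8 F) W) {w : I8 → F} (hwW : w ∈ W) (hw0 : w ≠ 0) :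
    Nat.card (E (res (Q8 F) Y)) ≤ Nat.card R := by
  have hwY : ∀ y ∈ Y, polar (Q8 F) y w = 0 := fun y hy => by
    rw [polar_comm]
    exact hY hy w hwW
  have h1 : ∀ g : E (res (Q8 F) Y), ∃ x : Omega F (quadFormPlus 4 F),
      QuotientGroup.mk' (Subgroup.center (Omega F (quadFormPlus 4 F))) x ∈ R ∧
      LieClassical.OrthFinite.glEquiv I8 F ((x : isometryGroup F (quadFormPlus 4 F)) : GL I8 F) w = w ∧
      ∀ y : Y, LieClassical.OrthFinite.glEquiv I8 F ((x : isometryGroup F (quadFormPlus 4 F)) : GL I8 F) (y : I8 → F) =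
        ((g : Y ≃ₗ[F] Y) y : I8 → F) := by
    intro g
    obtain ⟨g', hg', e⟩ := exists_lift (Q := Q8 F) (Y := Y) g.2
    obtain ⟨x, hx, rfl⟩ := exists_omega hs hY hg'
    exact ⟨x, hx, EY_fix hg' hwY, e⟩
  choose f hf1 hf2 hf3 using h1
  refine Nat.card_le_card_of_injective (fun g => (⟨_, hf1 g⟩ : R)) fun g g' hgg => ?_
  have h2 : QuotientGroup.mk' (Subgroup.center (Omega F (quadFormPlus 4 F))) (f g) =
      QuotientGroup.mk' (Subgroup.center (Omega F (quadFormPlus 4 F))) (f g') := congrArg Subtype.val hgg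
  have h3 : (f g)⁻¹ * f g' ∈ Subgroup.center (Omega F (quadFormPlus 4 F)) := QuotientGroup.eq.1 h2
  have h4 := eq_one_of_center h3 hw0 (by
    change (LieClassical.OrthFinite.glEquiv I8 F ((((f g : isometryGroup F (quadFormPlus 4 F)) : GL I8 F))⁻¹ *
      ((f g' : isometryGroup F (quadFormPlus 4 F)) : GL I8 F))) w = w
    rw [map_mul, map_inv, LinearEquiv.mul_apply, hf2 g']
    nth_rewrite 1 [← hf2 g]
    exact LinearEquiv.symm_apply_apply _ _)
  have h5 : f g = f g' := by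
    rw [inv_mul_eq_one] at h4
    exact h4
  apply Subtype.ext
  ext1 y
  apply Subtype.ext
  rw [← hf3 g, ← hf3 g', h5]

/-- primes dividing the order of `E(Y)` divide the order of `R` -/
theorem dvd_card_of (hs : HasSieg R W) (hY : Y ≤ perp (Q8 F) W) {w : I8 → F} (hwW : w ∈ W) (hw0 : w ≠ 0) {l : ℕ}
    (hl : l.Prime) (hd : l ∣ Nat.card (E (res (Q8 F) Y))) : l ∣ Nat.card R := by
  have hwY : ∀ y ∈ Y, polar (Q8 F) y w = 0 := fun y hy => by
    rw [polar_comm]
    exact hY hy w hwW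
  have := Fact.mk hl
  have hfin : Finite (Y ≃ₗ[F] Y) := Finite.of_injective (fun g : Y ≃ₗ[F] Y => (g : Y → Y)) DFunLike.coe_injective
  obtain ⟨g, hg⟩ := exists_prime_orderOf_dvd_card' l hd
  obtain ⟨g', hg', e⟩ := exists_lift (Q := Q8 F) (Y := Y) g.2
  obtain ⟨x, hx, rfl⟩ := exists_omega hs hY hg'
  let z : R := ⟨_, hx⟩
  have h1 : z ^ orderOf z = 1 := pow_orderOf_eq_one z
  have h2 : QuotientGroup.mk' (Subgroup.center (Omega F (quadFormPlus 4 F))) (x ^ orderOf z) = 1 := by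
    rw [map_pow]
    exact congrArg Subtype.val h1
  have h3 := (QuotientGroup.eq_one_iff _).1 h2
  have h4 : ∀ n : ℕ, LieClassical.OrthFinite.glEquiv I8 F (((x ^ n : Omega F (quadFormPlus 4 F)) :
      isometryGroup F (quadFormPlus 4 F)) : GL I8 F) =
      (LieClassical.OrthFinite.glEquiv I8 F ((x : isometryGroup F (quadFormPlus 4 F)) : GL I8 F)) ^ n := by
    intro n
    rw [← map_pow]
    rfl
  have h5 := eq_one_of_center h3 hw0 (by
    rw [h4]
    exact EY_fix (pow_mem hg' _) hwY)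
  have h6 : (LieClassical.OrthFinite.glEquiv I8 F ((x : isometryGroup F (quadFormPlus 4 F)) : GL I8 F)) ^ orderOf z = 1 := by
    rw [← h4, h5]
    exact map_one _
  have h7 : ∀ (n : ℕ) (y : Y), ((LieClassical.OrthFinite.glEquiv I8 F ((x : isometryGroup F (quadFormPlus 4 F)) :
      GL I8 F)) ^ n) (y : I8 → F) = (((g : Y ≃ₗ[F] Y) ^ n) y : I8 → F) := by
    intro n
    induction n with
    | zero => intro y; rfl
    | succ n ih =>
      intro y
      rw [pow_succ, pow_succ, LinearEquiv.mul_apply, LinearEquiv.mul_apply, e, ih]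
  have h8 : g ^ orderOf z = 1 := by
    apply Subtype.ext
    ext1 y
    apply Subtype.ext
    rw [Subgroup.coe_pow, ← h7, h6]
    rfl
  rw [← hg]
  exact (orderOf_dvd_of_pow_eq_one h8).trans (orderOf_dvd_natCard z)

theorem le_of_sieg_plane (hF : Nat.card F = p ^ a) (h : Nm p a r b s k t) {W : Submodule F (I8 → F)}
    (hW : finrank F W = 2) (hW0 : ∀ w ∈ W, quadFormPlus 4 F w = 0 → w = 0) (hs : HasSieg R W) :
    (p ^ a) ^ 6 * ((p ^ a) ^ 2 - 1) * ((p ^ a) ^ 3 + 1) * ((p ^ a) ^ 4 - 1) ≤ 2 * Nat.card R := by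
  obtain ⟨w, hw, hw0⟩ : ∃ w ∈ W, w ≠ 0 := Submodule.exists_mem_ne_zero_of_ne_bot (by
    rintro rfl
    rw [finrank_bot] at hW
    omega)
  have h1 := card_E_le hs (le_refl _) hw hw0
  obtain ⟨j, hj, h2⟩ := card_E_mul 2 le_rfl (nondeg_perp (nd_Q8 (F := F)) (nondeg_W hW hW0)) (dim_perp hW)
  rw [card_O_perp hF hW hW0] at h2
  have h3 : j ≤ 4 := by omega
  have h4 : Nat.card (E (res (Q8 F) (perp (Q8 F) W))) * j ≤ Nat.card R * 4 := Nat.mul_le_mul h1 h3
  omega

theorem dvd_of_sieg_point (hF : Nat.card F = p ^ a) (h : Nm p a r b s k t) {w : I8 → F} (hw : quadFormPlus 4 F w ≠ 0)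
    (hs : HasSieg R (Submodule.span F {w})) : t ∣ Nat.card R := by
  have hw' : Q8 F w ≠ 0 := by rw [coe_Q8]; exact hw
  have hw0 : w ≠ 0 := by
    rintro rfl
    exact hw' (map_zero _)
  have hp : p.Prime := h.rb.hp
  have ha : 1 ≤ a := h.rb.ha
  -- a singular vector not orthogonal to `w`
  obtain ⟨u, hu, huw⟩ : ∃ u : I8 → F, Q8 F u = 0 ∧ polar (Q8 F) u w = 1 := by
    obtain ⟨x, hx0, hx⟩ := exists_singular (Q8 F) (by rw [dim_Q8]; norm_num)
    obtain ⟨y, hxy⟩ := Cfsg.Agent.LieClassical.OrthTrans.exists_hyp nd_Q8 hx hx0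
    obtain ⟨u, hu, huw⟩ := Cfsg.Agent.LieClassical.OrthTrans.exists_sing_polar_one nd_Q8 hxy hw0
    exact ⟨u, hu, huw⟩
  have hH : Hyp (Q8 F) (w - Q8 F w • u) u := by
    refine ⟨?_, hu, ?_⟩
    · rw [sub_eq_add_neg, ← neg_smul, Q_add, QuadraticMap.map_smul, hu, polar_smul_right, polar_comm, huw]
      simp
    · rw [sub_eq_add_neg, ← neg_smul, polar_add_left, polar_smul_left, polar_self_of_sing hu, polar_comm, huw]
      simp
  have hn := nondeg_hperp (nd_Q8 (F := F)) hH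
  have hd := finrank_hperp hH
  rw [dim_Q8] at hd
  have hP : IsPlus (res (Q8 F) (hperp (Q8 F) (w - Q8 F w • u) u)) := (isPlus_hperp_iff nd_Q8 hH).2 (isPlus_plus 4)
  have hY : hperp (Q8 F) (w - Q8 F w • u) u ≤ perp (Q8 F) (Submodule.span F {w}) := by
    intro v hv z hz
    obtain ⟨c, rfl⟩ := Submodule.mem_span_singleton.1 hz
    have h1 : polar (Q8 F) (w - Q8 F w • u) v = 0 := hv.1
    have h2 : polar (Q8 F) u v = 0 := hv.2
    have h3 : w = (w - Q8 F w • u) + Q8 F w • u := by abel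
    rw [polar_smul_left, h3, polar_add_left, polar_smul_left, h1, h2]
    simp
  refine dvd_card_of hs hY (Submodule.mem_span_singleton_self w) hw0 h.t.prime ?_
  obtain ⟨j, hj, h2⟩ := card_E_mul 2 le_rfl hn (by omega)
  rw [card_O_plus 3 (by norm_num) hn (by omega) hP] at h2
  have h3 : t ∣ Nat.card (E (res (Q8 F) (hperp (Q8 F) (w - Q8 F w • u) u))) * j := by
    rw [h2, hF]
    have h4 : t ∣ (p ^ a) ^ 3 - 1 := by
      rw [← pow_mul, mul_comm a 3]
      exact h.t.dvd dvd_rfl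
    exact Dvd.dvd.mul_right (Dvd.dvd.mul_left h4 _) _
  rcases h.t.prime.dvd_mul.1 h3 with h4 | h4
  · exact h4
  · exfalso
    have h5 : t ∣ 2 ^ 2 := h4.trans (by rcases hj with rfl | rfl <;> norm_num)
    exact not_two hp h.t ha ((Nat.prime_dvd_prime_iff_eq h.t.prime Nat.prime_two).1 (h.t.prime.dvd_of_dvd_pow h5))

end Lower

end Cfsg.Agent.H372.O8R
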