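import Cfsg.Agent.H372.O8R.Ord

/-!
# S3691, row `PΩ⁺₈(q)`: primes dividing the order of a group containing `Ω₇(q)` (helper372)
-/

set_option autoImplicit false
set_option linter.unusedSectionVars false

namespace Cfsg.Agent.H372.O8R

open Module QuadraticMap Cfsg Cfsg.Geo Cfsg.Agent.LieClassical.OrthCore Cfsg.Agent.H955 Cfsg.Agent.H954.TSing
open Cfsg.Agent.LieClassical.OmegaReindex
open Cfsg.Agent.H884.El
open Cfsg.Agent.H708.O8 (I8 T8 RB)
open Cfsg.Agent.H436 (Prim)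
open Cfsg.Agent.H823.O8S Cfsg.Agent.H823.O8R
open Cfsg.Agent.LieClassical.OrthTrans (Hyp)
open scoped MatrixGroups Matrix

variable {F : Type} [Field F] [Fintype F] {p a r b s k t : ℕ} {R : Subgroup (T8 F)}

/-- odd primes dividing `|Ω₆⁺(q)|` divide the order of `R` -/
theorem dvd_of_sieg_point' (hF : Nat.card F = p ^ a) {w : I8 → F} (hw : quadFormPlus 4 F w ≠ 0)
    (hs : HasSieg R (Submodule.span F {w})) {l : ℕ} (hl : l.Prime) (hl2 : l ≠ 2)
    (hd : l ∣ (p ^ a) ^ 6 * ((p ^ a) ^ 3 - 1) * (((p ^ a) ^ 2 - 1) * ((p ^ a) ^ 4 - 1))) : l ∣ Nat.card R := by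
  have hw' : Q8 F w ≠ 0 := by rw [coe_Q8]; exact hw
  have hw0 : w ≠ 0 := by
    rintro rfl
    exact hw' (map_zero _)
  obtain ⟨u, hu, huw⟩ : ∃ u : I8 → F, Q8 F u = 0 ∧ polar (Q8 F) u w = 1 := by
    obtain ⟨x, hx0, hx⟩ := exists_singular (Q8 F) (by rw [dim_Q8]; norm_num)
    obtain ⟨y, hxy⟩ := Cfsg.Agent.LieClassical.OrthTrans.exists_hyp nd_Q8 hx hx0
    exact Cfsg.Agent.LieClassical.OrthTrans.exists_sing_polar_one nd_Q8 hxy hw0
  have hH : Hyp (Q8 F) (w - Q8 F w • u) u := by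
    refine ⟨?_, hu, ?_⟩
    · rw [sub_eq_add_neg, ← neg_smul, Q_add, QuadraticMap.map_smul, hu, polar_smul_right, polar_comm, huw]
      simp
    · rw [sub_eq_add_neg, ← neg_smul, polar_add_left, polar_smul_left, polar_self_of_sing hu, polar_comm, huw]
      simp
  have hn := nondeg_hperp (nd_Q8 (F := F)) hH
  have hd' := finrank_hperp hH
  rw [dim_Q8] at hd'
  have hP : IsPlus (res (Q8 F) (hperp (Q8 F) (w - Q8 F w • u) u)) := (isPlus_hperp_iff nd_Q8 hH).2 (isPlus_plus 4)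
  have hY : hperp (Q8 F) (w - Q8 F w • u) u ≤ perp (Q8 F) (Submodule.span F {w}) := by
    intro v hv z hz
    obtain ⟨c, rfl⟩ := Submodule.mem_span_singleton.1 hz
    have h1 : polar (Q8 F) (w - Q8 F w • u) v = 0 := hv.1
    have h2 : polar (Q8 F) u v = 0 := hv.2
    have h3 : w = (w - Q8 F w • u) + Q8 F w • u := by abel
    rw [polar_smul_left, h3, polar_add_left, polar_smul_left, h1, h2]
    simp
  refine dvd_card_of hs hY (Submodule.mem_span_singleton_self w) hw0 hl ?_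
  obtain ⟨j, hj, h2⟩ := card_E_mul 2 le_rfl hn (by omega)
  rw [card_O_plus 3 (by norm_num) hn (by omega) hP, Finset.prod_range_succ, Finset.prod_range_succ,
    Finset.prod_range_zero, hF] at h2
  have h3 : l ∣ Nat.card (E (res (Q8 F) (hperp (Q8 F) (w - Q8 F w • u) u))) * j := by
    rw [h2]
    refine hd.trans ⟨2, ?_⟩
    norm_num
    ring
  rcases hl.dvd_mul.1 h3 with h4 | h4
  · exact h4
  · exfalso
    have h5 : l ∣ 2 ^ 2 := h4.trans (by rcases hj with rfl | rfl <;> norm_num)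
    exact hl2 ((Nat.prime_dvd_prime_iff_eq hl Nat.prime_two).1 (hl.dvd_of_dvd_pow h5))

theorem r4_of_sieg_point (hF : Nat.card F = p ^ a) (h : Nm p a r b s k t) {w : I8 → F} (hw : quadFormPlus 4 F w ≠ 0)
    (hs : HasSieg R (Submodule.span F {w})) : r ∣ Nat.card R := by
  refine dvd_of_sieg_point' hF hw hs h.rb.prim.prime ?_ ?_
  · rcases h.rb.cases with h1 | h1 | h1 <;> omega
  · have h1 : r ∣ (p ^ a) ^ 4 - 1 := by
      rw [← pow_mul, mul_comm a 4]
      exact h.rb.prim.dvd dvd_rfl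
    exact Dvd.dvd.mul_left (Dvd.dvd.mul_left h1 _) _

end Cfsg.Agent.H372.O8R
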