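import Cfsg.Agent.H372.O8R.Ord

/-!
# S3691, row `PΩ⁺₈(q)`: a totally singular line orthogonal to an anisotropic plane (helper372)
-/

set_option autoImplicit false
set_option linter.unusedSectionVars false

namespace Cfsg.Agent.H372.O8R

open Module QuadraticMap Cfsg Cfsg.Geo Cfsg.Agent.LieClassical.OrthCore Cfsg.Agent.H955
open Cfsg.Agent.H708.O8 (I8 T8 RB)
open Cfsg.Agent.LieClassical.OrthTrans (Hyp)

variable {F : Type} [Field F] [Fintype F]

theorem exists_pair_perp {W : Submodule F (I8 → F)} (hW : finrank F W = 2)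
    (hW0 : ∀ w ∈ W, quadFormPlus 4 F w = 0 → w = 0) :
    ∃ u w : I8 → F, LieClassical.QuadForms.plusForm 4 F u = 0 ∧ LieClassical.QuadForms.plusForm 4 F w = 0 ∧
      polar (LieClassical.QuadForms.plusForm 4 F) u w = 0 ∧ LinearIndependent F ![u, w] ∧
      (∀ v ∈ W, polar (LieClassical.QuadForms.plusForm 4 F) u v = 0) ∧
      (∀ v ∈ W, polar (LieClassical.QuadForms.plusForm 4 F) w v = 0) := by
  have hn := nondeg_perp (nd_Q8 (F := F)) (nondeg_W hW hW0)
  have hd := dim_perp (F := F) hW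
  obtain ⟨x, hx0, hx⟩ := exists_singular (res (Q8 F) (perp (Q8 F) W)) (by rw [hd]; norm_num)
  obtain ⟨y, hxy⟩ := Cfsg.Agent.LieClassical.OrthTrans.exists_hyp hn hx hx0
  obtain ⟨w, hw0, hw, h⟩ := Cfsg.Agent.LieClassical.OrthFinite.exists_sing_perp (Q := res (Q8 F) (perp (Q8 F) W)) ![x, y]
    (by rw [hd]; norm_num)
  have h1 : polar (Q8 F) (x : I8 → F) (w : I8 → F) = 0 := h 0
  have h2 : polar (Q8 F) (y : I8 → F) (w : I8 → F) = 0 := h 1
  have h3 : polar (Q8 F) (x : I8 → F) (y : I8 → F) = 1 := hxy.pair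
  refine ⟨x, w, hx, hw, h1, ?_, fun v hv => ?_, fun v hv => ?_⟩
  · rw [LinearIndependent.pair_iff]
    intro s t hst
    have h4 : polar (Q8 F) (y : I8 → F) (s • (x : I8 → F) + t • (w : I8 → F)) = s := by
      rw [polar_add_right, polar_smul_right, polar_smul_right, h2, polar_comm, h3]
      simp
    rw [hst, polar_zero_right] at h4
    refine ⟨h4.symm, ?_⟩
    rw [← h4, zero_smul, zero_add] at hst
    exact (smul_eq_zero.1 hst).resolve_right fun h => hw0 (Subtype.ext h)
  · rw [polar_comm]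
    exact x.2 v hv
  · rw [polar_comm]
    exact w.2 v hv

end Cfsg.Agent.H372.O8R
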